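import Groth.Agent.L27.Colim.RpushTorsion
import Groth.Agent.L27.Colim.Etale
import Groth.Agent.L27.Colim.InjExact
import Groth.Agent.L28.EtTor.Basic
import Groth.Prelude.Def_EtAcyc
import Mathlib.LinearAlgebra.Finsupp.VectorSpace
import Mathlib.CategoryTheory.Abelian.GrothendieckCategory.EnoughInjectives

/-! # Acyclic effacements by torsion sheaves -/

universe u

open CategoryTheory CategoryTheory.Limits AlgebraicGeometry Opposite CategoryTheory.Abelian

set_option autoImplicit false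
set_option backward.isDefEq.respectTransparency.types false
set_option linter.style.haveILetI false

noncomputable section

namespace Groth.L27.CompTransfer

open Groth.L27.Colim

theorem free_nsmul_injective {σ : Type*} {m : ℕ} (hm : 0 < m) {x y : FreeAbelianGroup σ} (h : m • x = m • y) : x = y := by
  apply (FreeAbelianGroup.equivFinsupp σ).injective
  have := congrArg (FreeAbelianGroup.equivFinsupp σ) h
  rw [map_nsmul, map_nsmul] at this
  exact nsmul_right_injective hm.ne' this

section Site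

variable {C : Type (u + 1)} [Category.{u} C] {K L : C} {p : L ⟶ K} {P : Cᵒᵖ ⥤ AddCommGrpCat.{u + 1}}

theorem mono_nsmul_free {n : ℕ} {m : ℕ} (hm : 0 < m) : Mono (m • 𝟙 (Fr p n)) := by
  haveI : ∀ V, Mono ((m • 𝟙 (Fr p n)).app V) := fun V => by
    rw [AddCommGrpCat.mono_iff_injective]
    intro x y h
    simp only [NatTrans.app_nsmul, NatTrans.id_app] at h
    have h' : m • (x : FreeAbelianGroup ((T p n).obj V)) = m • (y : FreeAbelianGroup ((T p n).obj V)) := h
    exact free_nsmul_injective hm h'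
  exact NatTrans.mono_of_mono_app _

/-- Cochains with values in an injective presheaf are divisible. -/
theorem exists_div [Injective P] {n : ℕ} (z : Fam p P n) (hz : IsNat z) {m : ℕ} (hm : 0 < m) :
    ∃ z' : Fam p P n, IsNat z' ∧ ∀ V t, m • z' V t = z V t := by
  haveI := mono_nsmul_free (p := p) (n := n) hm
  let ψ := Injective.factorThru (toHom z hz) (m • 𝟙 (Fr p n))
  refine ⟨fun V t => ψ.app (op V) (FreeAbelianGroup.of (ULift.up t : (T p n).obj (op V))), fun {V W} g t => ?_, fun V t => ?_⟩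
  · refine Eq.trans ?_ congr($(ψ.naturality g.op) (FreeAbelianGroup.of (ULift.up t : (T p n).obj (op V))))
    exact congrArg (ψ.app (op W)) (FreeAbelianGroup.map_of_apply (f := ⇑((T p n).map g.op))
      (ULift.up t : (T p n).obj (op V))).symm
  · have h := congr($(congr_app (Injective.comp_factorThru (toHom z hz) (m • 𝟙 (Fr p n))) (op V))
      (FreeAbelianGroup.of (ULift.up t : (T p n).obj (op V))))
    refine (map_nsmul (ψ.app (op V)).hom m _).symm.trans (Eq.trans ?_ (h.trans (toHom_of z hz _)))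
    show ψ.app (op V) _ = ψ.app (op V) ((m • 𝟙 (Fr p n)).app (op V) _)
    simp only [NatTrans.app_nsmul, NatTrans.id_app]
    rfl

theorem d_nsmul {n : ℕ} (m : ℕ) (x : Fam p P n) : d (fun V t => m • x V t) = fun V t => m • d x V t := by
  funext V t
  simp only [d, Finset.smul_sum]
  exact Finset.sum_congr rfl fun j _ => (smul_comm _ _ _)

end Site

variable {X : Scheme.{u}}

/-- Sections of an injective sheaf are divisible. -/
theorem exists_div_section (I : EtCoh.Ab X) [Injective I] (U : X.Etale) (a : I.obj.obj (op U)) {m : ℕ}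
    (hm : 0 < m) : ∃ a', m • a' = a := by
  haveI : Injective I.obj := Injective.injective_of_adjoint (sheafificationAdjunction X.smallEtaleTopology AddCommGrpCat.{u + 1}) I
  haveI : ∀ V, Mono ((m • 𝟙 (freePre U)).app V) := fun V => by
    rw [AddCommGrpCat.mono_iff_injective]
    intro x y h
    simp only [NatTrans.app_nsmul, NatTrans.id_app] at h
    have h' : m • (x : FreeAbelianGroup (ULift.{u + 1, u} (V.unop ⟶ U))) = m • (y : FreeAbelianGroup _) := h
    exact free_nsmul_injective hm h'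
  haveI : Mono (m • 𝟙 (freePre U)) := NatTrans.mono_of_mono_app _
  let ψ := Injective.factorThru (ofSec U I a) (m • 𝟙 (freePre U))
  let e : (freePre U).obj (op U) := FreeAbelianGroup.of (ULift.up (𝟙 U) : ULift.{u + 1, u} (U ⟶ U))
  refine ⟨ψ.app (op U) e, ?_⟩
  have h := congr($(congr_app (Injective.comp_factorThru (ofSec U I a) (m • 𝟙 (freePre U))) (op U)) e)
  refine (map_nsmul (ψ.app (op U)).hom m e).symm.trans (Eq.trans ?_ (h.trans ?_))
  · show ψ.app (op U) _ = ψ.app (op U) ((m • 𝟙 (freePre U)).app (op U) e)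
    simp only [NatTrans.app_nsmul, NatTrans.id_app]
    rfl
  · exact (FreeAbelianGroup.lift_apply_of _ _).trans congr($(I.obj.map_id (op U)) a)

/-- The Cech complex of the torsion of an injective sheaf is exact. -/
theorem exists_preimage_killed (I : EtCoh.Ab X) [Injective I] {K L : X.Etale} {p : L ⟶ K}
    (hp : IsCov X.smallEtaleTopology p) {n : ℕ} (x : Fam p I.obj (n + 1)) (hx : IsNat x) (hdx : d x = 0)
    {m : ℕ} (hm : 0 < m) (hmx : ∀ V t, m • x V t = 0) :
    ∃ y : Fam p I.obj n, IsNat y ∧ d y = x ∧ ∀ V t, m • y V t = 0 := by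
  haveI : Injective I.obj := Injective.injective_of_adjoint (sheafificationAdjunction X.smallEtaleTopology AddCommGrpCat.{u + 1}) I
  obtain ⟨y, hy, hdy⟩ := cechExact_of_injective (p := p) (P := I.obj) n x hx hdx
  let w : Fam p I.obj n := fun V t => m • y V t
  have hw : IsNat w := fun {V W} g t => by
    show m • y W _ = I.obj.map g.op (m • y V t)
    rw [map_nsmul, hy g t]
  have hdw : d w = 0 := by
    rw [d_nsmul, hdy]
    funext V t
    exact hmx V t
  suffices h : ∃ w' : Fam p I.obj n, IsNat w' ∧ d w' = 0 ∧ ∀ V t, m • w' V t = w V t by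
    obtain ⟨w', hw', hdw', hmw'⟩ := h
    exact ⟨y - w', hy.sub hw', by rw [d_sub, hdy, hdw', sub_zero], fun V t => by
      show m • (y V t - w' V t) = 0
      rw [nsmul_sub, hmw', sub_self]⟩
  cases n with
  | succ n =>
    obtain ⟨z, hz, hdz⟩ := cechExact_of_injective (p := p) (P := I.obj) n w hw hdw
    obtain ⟨z', hz', hmz'⟩ := exists_div z hz hm
    refine ⟨d z', hz'.d, d_d z', fun V t => ?_⟩
    have h := congrFun (congrFun (d_nsmul m z') V) t
    rw [show (fun V t => m • z' V t) = z from funext fun V => funext fun t => hmz' V t, hdz] at h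
    exact h.symm
  | zero =>
    let t₁ : Tup p 0 L := ⟨fun _ => 𝟙 L, fun _ _ => rfl⟩
    have ht₁ : ∀ (V : X.Etale) (t : Tup p 0 V), w V t = I.obj.map (t.1 0).op (w L t₁) := fun V t => by
      refine Eq.trans (congrArg (w V) (Subtype.ext (funext fun k => ?_))) (hw (t.1 0) t₁)
      rw [show k = 0 from Subsingleton.elim (α := Fin 1) k 0]
      exact (Category.comp_id _).symm
    obtain ⟨a, ha⟩ := cov_glue I hp (w L t₁) (fun V t => by
      have : ∑ j : Fin 2, (-1 : ℤ) ^ (j : ℕ) • w V (t.face j) = 0 := congrFun (congrFun hdw V) t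
      simp only [Fin.sum_univ_two, Fin.val_zero, Fin.val_one, pow_zero, pow_one, one_smul, neg_smul,
        ← sub_eq_add_neg, sub_eq_zero] at this
      exact ((ht₁ V (t.face 0)).symm.trans (this.trans (ht₁ V (t.face 1)))).symm)
    obtain ⟨a', rfl⟩ := exists_div_section I K a hm
    refine ⟨fun V t => I.obj.map (t.1 0 ≫ p).op a', fun {V W} g t => ?_, ?_, fun V t => ?_⟩
    · rw [map_comp I g]
      exact congrArg (fun k : W ⟶ K => I.obj.map k.op a') (Category.assoc g (t.1 0) p)
    · funext V t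
      show ∑ j : Fin 2, (-1 : ℤ) ^ (j : ℕ) • I.obj.map ((t.face j).1 0 ≫ p).op a' = 0
      simp only [Fin.sum_univ_two, Fin.val_zero, Fin.val_one, pow_zero, pow_one, one_smul, neg_smul]
      rw [show (t.face 0).1 0 ≫ p = (t.face 1).1 0 ≫ p from t.2 _ _, add_neg_cancel]
    · rw [← map_nsmul, ← map_comp I (t.1 0) p, ha]
      exact (ht₁ V t).symm

variable (L : Set ℕ)

/-- Sections locally killed by an integer with primes in `L`. -/
def IsLocKilled (F : EtCoh.Ab X) {U : X.Etale} (s : F.obj.obj (op U)) : Prop :=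
  ∀ x : U.left, ∃ (V : X.Etale) (g : V ⟶ U) (m : ℕ),
    (∃ v : V.left, g.left.base v = x) ∧ EtAcyc.PrimesIn L m ∧ m • F.obj.map g.op s = 0

theorem isLocKilled_map (F : EtCoh.Ab X) {U W : X.Etale} (c : W ⟶ U) {s : F.obj.obj (op U)}
    (hs : IsLocKilled L F s) : IsLocKilled L F (F.obj.map c.op s) := fun w => by
  obtain ⟨V, g, m, ⟨v, hv⟩, hm, h0⟩ := hs (c.left w)
  haveI : AlgebraicGeometry.Etale g.left := EtSite.etale_left g
  haveI : AlgebraicGeometry.Etale W.hom := W.prop
  haveI : AlgebraicGeometry.Etale (pullback.fst c.left g.left) :=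
    MorphismProperty.pullback_fst (P := @AlgebraicGeometry.Etale) c.left g.left inferInstance
  let P : X.Etale := Scheme.Etale.mk (pullback.fst c.left g.left ≫ W.hom)
  let a : P ⟶ W := MorphismProperty.Over.homMk (pullback.fst c.left g.left) rfl
  let b : P ⟶ V := MorphismProperty.Over.homMk (pullback.snd c.left g.left) (by
    show pullback.snd c.left g.left ≫ V.hom = pullback.fst c.left g.left ≫ W.hom
    rw [← MorphismProperty.Over.w g, ← MorphismProperty.Over.w c, pullback.condition_assoc])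
  obtain ⟨q, hq, -⟩ := Scheme.Pullback.exists_preimage_pullback w v hv.symm
  refine ⟨P, a, m, ⟨q, hq⟩, hm, ?_⟩
  have e : a ≫ c = b ≫ g := MorphismProperty.Over.Hom.ext pullback.condition
  rw [map_comp, e, ← map_comp, ← map_nsmul, h0, map_zero]

/-- The subgroup of torsion sections. -/
def torSub (F : EtCoh.Ab X) (U : X.Etale) : AddSubgroup (F.obj.obj (op U)) where
  carrier := {s | IsLocKilled L F s}
  zero_mem' := fun x => ⟨U, 𝟙 U, 1, ⟨x, rfl⟩, ⟨Nat.one_pos, fun p hp h1 => absurd (Nat.dvd_one.1 h1) hp.ne_one⟩,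
    by rw [one_nsmul, map_zero]⟩
  add_mem' {s t} hs ht := fun x => by
    obtain ⟨V, g, m, ⟨v, hv⟩, hm, h0⟩ := hs x
    obtain ⟨W, c, k, ⟨w, hw⟩, hk, h1⟩ := isLocKilled_map L F g ht v
    refine ⟨W, c ≫ g, m * k, ⟨w, (Scheme.Hom.comp_apply _ _ _).trans ((congrArg g.left hw).trans hv)⟩,
      L28.EtTor.primesIn_mul hm hk, ?_⟩
    rw [← map_comp F c g, map_add, map_add, nsmul_add, mul_comm m k, mul_nsmul' _ k m, ← map_nsmul, h0, map_zero,
      nsmul_zero, mul_comm k m, mul_nsmul' _ m k, h1, nsmul_zero, add_zero]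
  neg_mem' {s} hs := fun x => by
    obtain ⟨V, g, m, hv, hm, h0⟩ := hs x
    exact ⟨V, g, m, hv, hm, by rw [map_neg, smul_neg, h0, neg_zero]⟩

/-- The torsion subpresheaf. -/
def torPre (F : EtCoh.Ab X) : X.Etaleᵒᵖ ⥤ AddCommGrpCat.{u + 1} where
  obj U := AddCommGrpCat.of (torSub L F U.unop)
  map {U V} g := AddCommGrpCat.ofHom (((F.obj.map g).hom.comp (torSub L F U.unop).subtype).codRestrict
    (torSub L F V.unop) fun s => isLocKilled_map L F g.unop s.2)
  map_id U := AddCommGrpCat.hom_ext (AddMonoidHom.ext fun s => Subtype.ext congr($(F.obj.map_id U) s.1))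
  map_comp f g := AddCommGrpCat.hom_ext (AddMonoidHom.ext fun s => Subtype.ext congr($(F.obj.map_comp f g) s.1))

theorem isSheaf_torPre (F : EtCoh.Ab X) : Presheaf.IsSheaf X.smallEtaleTopology (torPre L F) := by
  rw [Presheaf.isSheaf_iff_isSheaf_forget _ _ (forget AddCommGrpCat.{u + 1}), isSheaf_iff_isSheaf_of_type]
  intro U R hR x hx
  have hF := ((isSheaf_iff_isSheaf_of_type _ _).1
    ((Presheaf.isSheaf_iff_isSheaf_forget X.smallEtaleTopology F.obj (forget AddCommGrpCat.{u + 1})).1 F.property)) R hR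
  let x' : Presieve.FamilyOfElements (F.obj ⋙ forget AddCommGrpCat.{u + 1}) R.arrows := fun V g hg => (x g hg).1
  have hx' : x'.Compatible := fun Y₁ Y₂ Z g₁ g₂ f₁ f₂ h₁ h₂ e => congrArg Subtype.val (hx g₁ g₂ h₁ h₂ e)
  let s := hF.amalgamate x' hx'
  have hs : IsLocKilled L F s := fun z => by
    obtain ⟨V, g, v, hg, hv⟩ := (EtSite.mem_topology_iff R).1 hR z
    obtain ⟨W, c, m, ⟨w, hw⟩, hm, h0⟩ := (x g hg).2 v
    refine ⟨W, c ≫ g, m, ⟨w, (Scheme.Hom.comp_apply _ _ _).trans ((congrArg g.left hw).trans hv)⟩, hm, ?_⟩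
    rw [← map_comp F c g, show F.obj.map g.op s = x' g hg from hF.valid_glue hx' g hg]
    exact h0
  refine ⟨⟨s, hs⟩, fun V g hg => Subtype.ext (hF.valid_glue hx' g hg), fun t ht => Subtype.ext ?_⟩
  exact hF.isSeparatedFor.ext fun V g hg => (congrArg Subtype.val (ht g hg)).trans (hF.valid_glue hx' g hg).symm

/-- The torsion subsheaf. -/
def tor (F : EtCoh.Ab X) : EtCoh.Ab X := ⟨torPre L F, isSheaf_torPre L F⟩

/-- The inclusion of the torsion subsheaf. -/
def torι (F : EtCoh.Ab X) : tor L F ⟶ F :=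
  ⟨{ app := fun U => AddCommGrpCat.ofHom (torSub L F U.unop).subtype }⟩

theorem torι_injective (F : EtCoh.Ab X) (U : X.Etale) : Function.Injective ((torι L F).hom.app (op U)) :=
  Subtype.val_injective

theorem isLTorsion_tor (F : EtCoh.Ab X) : EtAcyc.IsLTorsion L (tor L F) := fun U s x => by
  obtain ⟨V, g, m, hv, hm, h0⟩ := s.2 x
  exact ⟨V, g, m, hv, hm, Subtype.ext (((torSub L F V).subtype.map_nsmul m _).trans h0)⟩

/-- The torsion of an injective sheaf is Cech acyclic on quasi-compact objects. -/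
theorem acyc_tor (I : EtCoh.Ab X) [Injective I] :
    Acyc (Qcqs (X := X)) (tor L I) := by
  intro K L' p hK hL hp n c hc hdc
  obtain ⟨W, t, hW, huniv⟩ := exists_tup p hK hL (n + 1)
  haveI := hW.1
  obtain ⟨m, hm, hm0⟩ := L28.EtTor.exists_smul_eq_zero (isLTorsion_tor L I) W (c W t)
  have hmc : ∀ V t', m • c V t' = 0 := fun V t' => by
    obtain ⟨g, hg, -⟩ := huniv V t'
    rw [← hg, hc g t, ← map_nsmul, show m • c W t = 0 from hm0, map_zero]
  obtain ⟨y, hy, hdy, hmy⟩ := exists_preimage_killed I hp (mapFam (torι L I).hom c) (hc.map _)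
    (by rw [d_mapFam, hdc]; funext V t'; exact map_zero _) hm.1
    (fun V t' => (map_nsmul ((torι L I).hom.app (op V)).hom m _).symm.trans ((congrArg _ (hmc V t')).trans (map_zero _)))
  have hmem : ∀ V t', IsLocKilled L I (y V t') := fun V t' x =>
    ⟨V, 𝟙 V, m, ⟨x, rfl⟩, hm, by rw [← map_nsmul, hmy, map_zero]⟩
  refine ⟨fun V t' => ⟨y V t', hmem V t'⟩, fun {V V'} g t' => Subtype.ext (hy g t'), ?_⟩
  funext V t'
  apply torι_injective L I V
  refine Eq.trans ?_ (congrFun (congrFun hdy V) t')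
  exact (congrFun (congrFun (d_mapFam (torι L I).hom fun V t' => (⟨y V t', hmem V t'⟩ : torSub L I V)) V) t').symm

theorem subsingleton_H_tor [CompactSpace X] [QuasiSeparatedSpace X] (I : EtCoh.Ab X) [Injective I] (n : ℕ) :
    Subsingleton (EtCoh.H X (tor L I) (n + 1)) :=
  subsingleton_H_of_acyc good (EtCore.topIsTerminal X) (hT₀ := ⟨‹_›, ‹_›⟩) n _ (acyc_tor L I)

/-- Higher direct images of Cech acyclic sheaves vanish. -/
theorem isZero_Rpush_of_acyc {Y : Scheme.{u}} (f : X ⟶ Y) [QuasiCompact f] [QuasiSeparated f]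
    (F : EtCoh.Ab X) (hF : Acyc (Qcqs (X := X)) F) (q : ℕ) (hq : 0 < q) :
    IsZero ((EtCoh.Rpush f q).obj F) := by
  obtain ⟨p, rfl⟩ : ∃ p, q = p + 1 := ⟨q - 1, by omega⟩
  let R := injectiveResolution F
  let K := ((EtCoh.push f).mapHomologicalComplex (ComplexShape.up ℕ)).obj R.cocomplex
  refine IsZero.of_iso ?_ (R.isoRightDerivedObj (EtCoh.push f) (p + 1))
  show IsZero (K.homology (p + 1))
  have hzero : ∀ (U : Y.Etale) (s : (K.homology (p + 1)).obj.obj (op U)), s = 0 := fun U s => by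
    refine EtSite.ext_of_locally _ fun x => ?_
    have : Sheaf.IsLocallySurjective (K.homologyπ (p + 1)) :=
      (Sheaf.isLocallySurjective_iff_epi' (φ := K.homologyπ (p + 1))).2 inferInstance
    obtain ⟨V₁, g₁, v₁, ⟨c₁, hc₁⟩, hv₁⟩ :=
      (EtSite.mem_topology_iff _).1 (Presheaf.imageSieve_mem Y.smallEtaleTopology (K.homologyπ (p + 1)).hom s) x
    obtain ⟨V, g, v, hv, hq⟩ := exists_qcqs_nhd f V₁ v₁
    refine ⟨V, g ≫ g₁, v, (Scheme.Hom.comp_apply _ _ _).trans ((congrArg g₁.left hv).trans hv₁), ?_⟩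
    let c := (K.cycles (p + 1)).obj.map g.op c₁
    have hc : (K.homologyπ (p + 1)).hom.app (op V) c = (K.homology (p + 1)).obj.map (g ≫ g₁).op s :=
      (NatTrans.naturality_apply (K.homologyπ (p + 1)).hom g.op c₁).trans
        ((congrArg ((K.homology (p + 1)).obj.map g.op) hc₁).trans (map_comp (K.homology (p + 1)) g g₁ s))
    let W := (EtCoh.bc f).obj V
    let z : (R.cocomplex.X (p + 1)).obj.obj (op W) := (K.iCycles (p + 1)).hom.app (op V) c
    let φ : freeSh W ⟶ R.cocomplex.X (p + 1) := (homEquiv W _).symm z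
    have hφ : φ ≫ R.cocomplex.d (p + 1) (p + 1 + 1) = 0 := by
      apply (homEquiv W _).injective
      rw [homEquiv_comp, AddEquiv.apply_symm_apply, map_zero]
      exact congr($(K.iCycles_d (p + 1) (p + 1 + 1)).hom.app (op V) c)
    haveI := ExtRep.subsingleton_H_of_acyc good (rep W) hq p F hF
    obtain ⟨ψ, hψ⟩ := (R.extMk_eq_zero_iff φ (p + 1 + 1) rfl hφ p rfl).1 (Subsingleton.elim _ _)
    let y : (K.X p).obj.obj (op V) := homEquiv W _ ψ
    have hy : c = (K.toCycles p (p + 1)).hom.app (op V) y := by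
      have hmono : Mono ((sheafToPresheaf Y.smallEtaleTopology AddCommGrpCat.{u + 1}).map (K.iCycles (p + 1))) :=
        inferInstance
      apply (AddCommGrpCat.mono_iff_injective _).1 ((NatTrans.mono_iff_mono_app _).1 hmono (op V))
      refine Eq.trans ?_ congr($(K.toCycles_i p (p + 1)).hom.app (op V) y).symm
      show z = (R.cocomplex.d p (p + 1)).hom.app (op W) (homEquiv W _ ψ)
      rw [← homEquiv_comp, hψ, AddEquiv.apply_symm_apply]
    rw [← hc, hy, map_zero]
    exact congr($(K.toCycles_comp_homologyπ p (p + 1)).hom.app (op V) y)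
  refine (IsZero.iff_id_eq_zero _).2 (ObjectProperty.hom_ext _ ?_)
  ext U s
  exact (hzero U.unop s).trans rfl

/-- Torsion sheaves embed into acyclic torsion sheaves. -/
theorem exists_torsion_effacement [CompactSpace X] [QuasiSeparatedSpace X] (F : EtCoh.Ab X)
    (hF : EtAcyc.IsLTorsion L F) :
    ∃ (G : EtCoh.Ab X) (u : F ⟶ G), Mono u ∧ EtAcyc.IsLTorsion L G ∧
      (∀ n, Subsingleton (EtCoh.H X G (n + 1))) ∧
      ∀ {Y : Scheme.{u}} (f : X ⟶ Y) [QuasiCompact f] [QuasiSeparated f] (q : ℕ), 0 < q →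
        IsZero ((EtCoh.Rpush f q).obj G) := by
  let I := Injective.under F
  have hmem : ∀ (U : X.Etale) (s : F.obj.obj (op U)), IsLocKilled L I ((Injective.ι F).hom.app (op U) s) :=
    fun U s x => by
      obtain ⟨V, g, m, hv, hm, h0⟩ := hF U s x
      refine ⟨V, g, m, hv, hm, ?_⟩
      rw [← NatTrans.naturality_apply (Injective.ι F).hom g.op s, ← map_nsmul, h0, map_zero]
  let u : F ⟶ tor L I := ⟨{
    app := fun U => AddCommGrpCat.ofHom (((Injective.ι F).hom.app U).hom.codRestrict (torSub L I U.unop) (hmem U.unop))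
    naturality := fun U V g => AddCommGrpCat.hom_ext (AddMonoidHom.ext fun s =>
      Subtype.ext (NatTrans.naturality_apply (Injective.ι F).hom g s)) }⟩
  have hu : u ≫ torι L I = Injective.ι F := rfl
  exact ⟨tor L I, u, mono_of_mono_fac hu, isLTorsion_tor L I, fun n => subsingleton_H_tor L I n,
    fun f _ _ q hq => isZero_Rpush_of_acyc f _ (acyc_tor L I) q hq⟩

variable {L} in
theorem isLTorsion_of_epi {G Q : EtCoh.Ab X} (p : G ⟶ Q) [Epi p] (hG : EtAcyc.IsLTorsion L G) :
    EtAcyc.IsLTorsion L Q := by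
  refine L28.EtTor.isLTorsion_iff_stalks.2 fun Ω _ _ ξ t => ?_
  obtain ⟨t', rfl⟩ := (EtSite.epi_iff_stalks p).1 inferInstance Ω ξ t
  obtain ⟨m, hm, ht⟩ := L28.EtTor.isLTorsion_iff_stalks.1 hG Ω ξ t'
  exact ⟨m, hm, (map_nsmul ((EtCoh.stalk ξ).map p).hom m t').symm.trans ((congrArg _ ht).trans (map_zero _))⟩

theorem isLTorsion_push {Y : Scheme.{u}} (f : X ⟶ Y) [QuasiCompact f] [QuasiSeparated f] {F : EtCoh.Ab X}
    (hF : EtAcyc.IsLTorsion L F) : EtAcyc.IsLTorsion L ((EtCoh.push f).obj F) := fun U s x => by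
  obtain ⟨V, g, v, hv, hq⟩ := exists_qcqs_nhd f U x
  haveI := hq.1
  obtain ⟨m, hm, h0⟩ := L28.EtTor.exists_smul_eq_zero hF ((EtCoh.bc f).obj V) (((EtCoh.push f).obj F).obj.map g.op s)
  exact ⟨V, g, m, ⟨v, hv⟩, hm, h0⟩

end Groth.L27.CompTransfer
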