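import Groth.Agent.L27.CompTransfer.Transfer
import Groth.Agent.L27.LimCoh.StageSys
import Groth.Agent.L27.HenselClosed.Main

/-! # Detecting classes after a surjective base change -/

universe u

open CategoryTheory CategoryTheory.Limits AlgebraicGeometry Opposite CategoryTheory.Abelian

set_option autoImplicit false
set_option backward.isDefEq.respectTransparency.types false
set_option linter.style.haveILetI false
set_option linter.unusedSectionVars false

noncomputable section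

namespace Groth.L27.CompTransfer

open Groth.L27.LimCoh

theorem pushCongr_rfl {X Y : Scheme.{u}} (f : X ⟶ Y) (F : EtCoh.Ab X) :
    (EtCoh.pushCongr (rfl : f = f)).hom.app F = 𝟙 _ := by
  refine sheafHom_ext fun V s => ?_
  simp [EtCoh.pushCongr, MorphismProperty.Over.pullbackCongr, MorphismProperty.Over.isoMk,
    MorphismProperty.Comma.isoMk, Comma.isoMk]
  refine Eq.trans ?_ (congr($(F.obj.map_id _) s))
  refine congrArg (fun l => F.obj.map (Quiver.Hom.op l) s) (bc_hom_ext _ ?_)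
  rfl

theorem pushJoin_congr {X Y Z : Scheme.{u}} (f : Z ⟶ Y) (g : Y ⟶ X) {k : Z ⟶ X} (w : f ≫ g = k) (F : EtCoh.Ab Z) :
    (EtCoh.pushComp g f).hom.app F ≫ (EtCoh.pushCongr w).hom.app F = pushJoin f g w F := by
  subst w
  rw [pushCongr_rfl, pushComp_hom_app]
  exact Category.comp_id _

theorem isLTorsion_pull {X Y : Scheme.{u}} (L : Set ℕ) (p : X ⟶ Y) {F : EtCoh.Ab Y} (hF : EtAcyc.IsLTorsion L F) :
    EtAcyc.IsLTorsion L ((EtCoh.pull p).obj F) := by
  refine L28.EtTor.isLTorsion_iff_stalks.2 fun Ω _ _ ξ t => ?_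
  let e := (EtSite.stalkPullIso p ξ).app F
  obtain ⟨m, hm, h0⟩ := L28.EtTor.isLTorsion_iff_stalks.1 hF Ω (ξ ≫ p) (e.hom t)
  refine ⟨m, hm, (ConcreteCategory.bijective_of_isIso e.hom).1 ?_⟩
  exact ((map_nsmul e.hom.hom m t).trans h0).trans (map_zero e.hom.hom).symm

theorem comp_aux {C : Type*} [Category C] {A B B' D D' M : C} (a : A ⟶ B) (b : B ⟶ B') (c : B' ⟶ D) (d : D ⟶ D')
    {i : M ⟶ D'} {i' : D' ⟶ M} (hi : i' ≫ i = 𝟙 D') : (a ≫ b ≫ c ≫ d ≫ i') ≫ i = a ≫ b ≫ c ≫ d := by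
  simp only [Category.assoc, hi, Category.comp_id]

theorem inv_eq_aux {C : Type*} [Category C] {A B : C} (g : B ⟶ A) (e : A ≅ B) (h : g ≫ e.hom = 𝟙 B) : e.inv = g :=
  ((Iso.comp_hom_eq_id e).1 h).symm

theorem HofPush_map_eq {A B : Scheme.{u}} (f : A ⟶ B) [PreservesFiniteLimits (EtCoh.pull f)] {M K : EtCoh.Ab B}
    {N : EtCoh.Ab A} (a : M ⟶ K) (c : K ⟶ (EtCoh.push f).obj N) (m : ℕ) (e : EtCoh.H B M m) :
    EtLim.HofPush f N m ((EtCoh.HF B m).map c ((EtCoh.HF B m).map a e)) =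
      (EtCoh.HF A m).map ((EtCoh.pull f).map (a ≫ c) ≫ (EtCoh.pullPushAdj f).counit.app N)
        (EtCore.Hpull f M m e) := by
  refine (congrArg _ (HF_map_comp a c m e).symm).trans ?_
  refine (EtSite.HofPush_def f _ m _).trans ?_
  exact (congrArg _ (Hpull_map f (a ≫ c) m e)).trans (HF_map_comp _ _ _ _).symm

variable {X Y Xb Yb : Scheme.{u}} (h : Y ⟶ X) (p : Xb ⟶ X) (hb : Yb ⟶ Xb) (pY : Yb ⟶ Y) (w : hb ≫ p = pY ≫ h)
  [PreservesFiniteLimits (EtCoh.pull h)] [PreservesFiniteLimits (EtCoh.pull hb)] [PreservesFiniteLimits (EtCoh.pull pY)]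

theorem gamma_comp_symm (F : EtCoh.Ab X) {G : EtCoh.Ab Xb} (v : (EtCoh.pull p).obj F ⟶ G)
    (θ : (EtCoh.push p).obj G ⟶ (EtCoh.push h).obj ((EtCoh.push pY).obj ((EtCoh.pull hb).obj G)))
    (hθ : θ ≫ pushJoin pY h rfl _ = (EtCoh.push p).map ((EtCoh.pullPushAdj hb).unit.app G) ≫ pushJoin hb p w _) :
    gamma pY h rfl F ≫ (EtCoh.pull pY).map ((EtCoh.pull h).map ((EtCoh.pullPushAdj p).homEquiv _ _ v) ≫
        ((EtCoh.pullPushAdj h).homEquiv _ _).symm θ) ≫ (EtCoh.pullPushAdj pY).counit.app ((EtCoh.pull hb).obj G) =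
      gamma hb p w F ≫ (EtCoh.pull hb).map v := by
  let u := (EtCoh.pullPushAdj p).homEquiv _ _ v
  refine ((EtCoh.pullPushAdj (pY ≫ h)).homEquiv _ _).injective ?_
  have l := homEquiv_gamma_comp pY h rfl F (u ≫ θ) (𝟙 ((EtCoh.push pY).obj ((EtCoh.pull hb).obj G)))
  have r := homEquiv_gamma_comp hb p w F u ((EtCoh.pullPushAdj hb).unit.app G)
  rw [Adjunction.homEquiv_naturality_left_symm, (EtCoh.pullPushAdj pY).homEquiv_counit,
    CategoryTheory.Functor.map_id, CategoryTheory.Functor.map_id, Category.id_comp, Category.id_comp] at l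
  rw [Equiv.symm_apply_apply, (EtCoh.pullPushAdj hb).homEquiv_counit] at r
  erw [(EtCoh.pullPushAdj hb).left_triangle_components G, Category.comp_id] at r
  exact l.trans ((Category.assoc _ _ _).trans ((congrArg (u ≫ ·) hθ).trans r.symm))

theorem baseChange0_join (G : EtCoh.Ab Xb) :
    ((EtCoh.push p).map ((EtCoh.pullPushAdj hb).unit.app G) ≫ (EtCoh.pushComp p hb).hom.app _ ≫
      (EtCoh.pushCongr w).hom.app _ ≫ (EtCoh.pushComp h pY).inv.app ((EtCoh.pull hb).obj G)) ≫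
        pushJoin pY h rfl _ =
      (EtCoh.push p).map ((EtCoh.pullPushAdj hb).unit.app G) ≫ pushJoin hb p w _ := by
  rw [← pushComp_hom_app pY h, ← pushJoin_congr hb p w]
  simp only [Category.assoc, Iso.inv_hom_id_app, Category.comp_id]

theorem gamma_comp_baseChange0 (F : EtCoh.Ab X) {G : EtCoh.Ab Xb} (v : (EtCoh.pull p).obj F ⟶ G) :
    gamma pY h rfl F ≫ (EtCoh.pull pY).map ((EtCoh.pull h).map ((EtCoh.pullPushAdj p).homEquiv _ _ v) ≫
        EtCoh.baseChange0 p h pY hb w G) ≫ (EtCoh.pullPushAdj pY).counit.app ((EtCoh.pull hb).obj G) =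
      gamma hb p w F ≫ (EtCoh.pull hb).map v := by
  unfold EtCoh.baseChange0
  exact gamma_comp_symm h p hb pY w F v _ (baseChange0_join h p hb pY w G)

theorem HpullVia_eq_map {A B : Scheme.{u}} (f : A ⟶ B) (t : B ⟶ X) (f₀ : A ⟶ X) (hw : f ≫ t = f₀)
    [PreservesFiniteLimits (EtCoh.pull f)] (F : EtCoh.Ab X) (m : ℕ) (e : EtCoh.H B ((EtCoh.pull t).obj F) m) :
    EtCore.HpullVia f t f₀ hw F m e = (EtCoh.HF A m).map
      (((EtCore.pullComp f t).symm ≪≫ EtCore.pullCongr hw).app F).hom (EtCore.Hpull f _ m e) :=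
  (HpullVia_eq f t f₀ hw F m e).trans (HpullThen_apply f _ _ m e)

theorem inv_eq_gamma {A B : Scheme.{u}} (f : A ⟶ B) (t : B ⟶ X) (f₀ : A ⟶ X) (hw : f ≫ t = f₀) (F : EtCoh.Ab X) :
    (((EtCore.pullComp f t).symm ≪≫ EtCore.pullCongr hw).app F).inv = gamma f t hw F :=
  inv_eq_aux (gamma f t hw F) (((EtCore.pullComp f t).symm ≪≫ EtCore.pullCongr hw).app F) (gamma_inv F f t hw)

theorem Hpull_eq_gamma {A B : Scheme.{u}} (f : A ⟶ B) (t : B ⟶ X) (f₀ : A ⟶ X) (hw : f ≫ t = f₀)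
    [PreservesFiniteLimits (EtCoh.pull f)] (F : EtCoh.Ab X) (m : ℕ) (e : EtCoh.H B ((EtCoh.pull t).obj F) m) :
    EtCore.Hpull f _ m e = (EtCoh.HF A m).map (gamma f t hw F) (EtCore.HpullVia f t f₀ hw F m e) := by
  rw [HpullVia_eq_map, ← HF_map_comp, ← inv_eq_gamma, Iso.hom_inv_id, CategoryTheory.Functor.map_id]
  rfl

theorem push_image_eq (F : EtCoh.Ab X) {G : EtCoh.Ab Xb} (v : (EtCoh.pull p).obj F ⟶ G) (m : ℕ)
    (ξ : EtCoh.H Y ((EtCoh.pull h).obj F) m) (η : EtCoh.H Xb ((EtCoh.pull p).obj F) m)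
    (hη : EtCore.HpullVia hb p (pY ≫ h) w F m η = EtCore.HpullVia pY h (pY ≫ h) rfl F m ξ) :
    EtLim.HofPush pY _ m ((EtCoh.HF Y m).map (EtCoh.baseChange0 p h pY hb w G)
      ((EtCoh.HF Y m).map ((EtCoh.pull h).map ((EtCoh.pullPushAdj p).homEquiv _ _ v)) ξ)) =
    EtCore.Hpull hb G m ((EtCoh.HF Xb m).map v η) := by
  refine (HofPush_map_eq pY _ _ m ξ).trans ?_
  refine (congrArg _ (Hpull_eq_gamma pY h (pY ≫ h) rfl F m ξ)).trans ((HF_map_comp _ _ m _).symm.trans ?_)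
  refine Eq.trans ?_ ((Hpull_map hb v m η).trans (congrArg _ ((Hpull_eq_gamma hb p (pY ≫ h) w F m η).trans
    (congrArg _ hη)))).symm
  refine Eq.trans ?_ (HF_map_comp (gamma hb p w F) ((EtCoh.pull hb).map v) m _)
  exact congrArg (fun z => (EtCoh.HF Yb m).map z (EtCore.HpullVia pY h (pY ≫ h) rfl F m ξ))
    (gamma_comp_baseChange0 h p hb pY w F v)

theorem mem_range_iff [CompactSpace X] [QuasiSeparatedSpace X] [CompactSpace Xb] [QuasiSeparatedSpace Xb]
    [Surjective p] (L : Set ℕ) (n : ℕ) (hh : EtAcyc.CompN h L n)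
    (hbc : ∀ Fb : EtCoh.Ab Xb, EtAcyc.IsLTorsion L Fb → ∀ i : ℕ, i ≤ n → IsIso (EtBC.bcQ p h pY hb w i Fb))
    (F : EtCoh.Ab X) (hF : EtAcyc.IsLTorsion L F) (ξ : EtCoh.H Y ((EtCoh.pull h).obj F) (n + 1)) :
    ξ ∈ Set.range (EtCore.Hpull h F (n + 1)) ↔
      EtCore.HpullVia pY h (pY ≫ h) rfl F (n + 1) ξ ∈
        Set.range (EtCore.HpullVia hb p (pY ≫ h) w F (n + 1)) := by
  haveI := EtSite.preservesFiniteLimits_pull p
  haveI := EtSite.preservesFiniteLimits_pull (pY ≫ h)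
  haveI : QuasiCompact p := quasiCompact_of_compactSpace p
  haveI : QuasiSeparated p := QuasiSeparated.of_comp p X.toSpecΓ
  constructor
  · rintro ⟨x, rfl⟩
    refine ⟨EtCore.Hpull p F (n + 1) x, ?_⟩
    rw [HpullVia_eq_map, HpullVia_eq_map, Hpull_comp pY h rfl, Hpull_comp hb p w, ← HF_map_comp, ← HF_map_comp,
      gamma_inv F pY h rfl, gamma_inv F hb p w]
  · rintro ⟨η, hη⟩
    obtain ⟨G, v, _, hG, hGv, hGR⟩ := exists_torsion_effacement L _ (isLTorsion_pull L p hF)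
    let u := (EtCoh.pullPushAdj p).homEquiv _ _ v
    haveI : PreservesLimitsOfSize.{0, 0} (EtCoh.push p) := (EtCoh.pullPushAdj p).rightAdjoint_preservesLimits
    haveI : Mono u := by
      haveI := HenselClosed.mono_unit p F
      rw [show u = (EtCoh.pullPushAdj p).unit.app F ≫ (EtCoh.push p).map v from Adjunction.homEquiv_unit _ _ _ _]
      infer_instance
    let E := ShortComplex.mk u (cokernel.π u) (cokernel.condition u)
    have hE : E.ShortExact := { exact := ShortComplex.exact_of_g_is_cokernel _ (cokernelIsCokernel _) }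
    have hpG := isLTorsion_push L p hG
    have hQ : EtAcyc.IsLTorsion L E.X₃ := isLTorsion_of_epi (cokernel.π u) hpG
    suffices hz : (EtCoh.HF Y (n + 1)).map ((EtCoh.pull h).map u) ξ = 0 by
      obtain ⟨y, hy⟩ := exists_δH (hE.map_of_exact (EtCoh.pull h)) n ξ hz
      obtain ⟨x, rfl⟩ := ((hh _ hQ).1 n le_rfl).2 y
      exact ⟨δH hE n x, (Hpull_δH h hE n x).trans hy⟩
    have hR' : ∀ q : ℕ, 1 ≤ q → q ≤ n → IsZero ((EtCoh.Rpush pY q).obj ((EtCoh.pull hb).obj G)) := fun q h1 h2 => by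
      haveI := hbc G hG q h2
      exact IsZero.of_iso ((EtCoh.pull h).map_isZero (hGR p q h1)) (asIso (EtBC.bcQ p h pY hb w q G)).symm
    obtain ⟨-, hinj⟩ := edge pY n _ hR'
    haveI := hbc G hG 0 (Nat.zero_le _)
    haveI := isIso_baseChange0_of_bcQ h p hb pY w G
    apply (ConcreteCategory.bijective_of_isIso ((EtCoh.HF Y (n + 1)).map (EtCoh.baseChange0 p h pY hb w G))).1
    rw [map_zero]
    apply hinj
    refine Eq.trans ?_ (map_zero _).symm
    refine (push_image_eq h p hb pY w F v (n + 1) ξ η hη).trans ?_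
    haveI := hGv n
    exact (congrArg _ (Subsingleton.elim (α := EtCoh.H Xb G (n + 1)) _ 0)).trans (map_zero _)

end Groth.L27.CompTransfer
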