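import Groth.Agent.L27.CompTransfer.Edge
import Groth.Agent.L27.CompTransfer.Torsion
import Groth.Prelude.Def_EtBC2

/-! # Transfer of the comparison condition along base change -/

universe u

open CategoryTheory CategoryTheory.Limits AlgebraicGeometry Opposite CategoryTheory.Abelian

set_option autoImplicit false
set_option backward.isDefEq.respectTransparency.types false
set_option linter.style.haveILetI false

noncomputable section

namespace Groth.L27.CompTransfer

open Groth.L27.LimCoh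

variable {X Y Xb Yb : Scheme.{u}}

/-- Degree zero comparison in terms of the unit. -/
theorem bijective_Hpull_zero_iff (f : Y ⟶ X) [PreservesFiniteLimits (EtCoh.pull f)] (F : EtCoh.Ab X) :
    Function.Bijective (EtCore.Hpull f F 0) ↔
      Function.Bijective (((EtCoh.pullPushAdj f).unit.app F).hom.app (op (EtCoh.top X))) := by
  let η : F ⟶ (EtCoh.push f).obj ((EtCoh.pull f).obj F) := (EtCoh.pullPushAdj f).unit.app F
  let k := ((EtCoh.pull f).obj F).obj.map (EtCore.bcTopIso f).inv.op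
  have hk : Function.Bijective k := ConcreteCategory.bijective_of_isIso k
  have h : (secEq _ ∘ EtCore.Hpull f F 0) = (k ∘ η.hom.app (op (EtCoh.top X))) ∘ secEq F := funext fun e => by
    show secEq _ (EtCore.Hpull f F 0 e) = k (η.hom.app _ (secEq F e))
    rw [EtSite.Hpull_apply, secEq_HofPush]
    exact congrArg k ((congrArg (secEq _) (EtSite.HF_map_apply η 0 e).symm).trans (secEq_map η e))
  rw [← (secEq ((EtCoh.pull f).obj F)).bijective.of_comp_iff' (EtCore.Hpull f F 0), h,
    Function.Bijective.of_comp_iff _ (secEq F).bijective, Function.Bijective.of_comp_iff' hk]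
  rfl

variable (h : Y ⟶ X) (p : Xb ⟶ X) (hb : Yb ⟶ Xb) (pY : Yb ⟶ Y) (w : hb ≫ p = pY ≫ h)
  [PreservesFiniteLimits (EtCoh.pull h)] [PreservesFiniteLimits (EtCoh.pull hb)]

theorem isIso_baseChange0_of_bcQ (F : EtCoh.Ab Xb) [IsIso (EtBC.bcQ p h pY hb w 0 F)] :
    IsIso (EtCoh.baseChange0 p h pY hb w F) := by
  have e := EtBC.bcQ_zero_compat p h pY hb w F
  haveI : IsIso (EtCoh.baseChange0 p h pY hb w F ≫ (EtCoh.push pY).toRightDerivedZero.app ((EtCoh.pull hb).obj F)) := by
    rw [← e]; infer_instance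
  exact IsIso.of_isIso_comp_right _ ((EtCoh.push pY).toRightDerivedZero.app ((EtCoh.pull hb).obj F))

theorem bijective_Hpull_zero (F : EtCoh.Ab Xb) [IsIso (EtCoh.baseChange0 p h pY hb w F)]
    (hh : Function.Bijective (EtCore.Hpull h ((EtCoh.push p).obj F) 0)) :
    Function.Bijective (EtCore.Hpull hb F 0) := by
  rw [bijective_Hpull_zero_iff] at hh ⊢
  let ηb : F ⟶ (EtCoh.push hb).obj ((EtCoh.pull hb).obj F) := (EtCoh.pullPushAdj hb).unit.app F
  let c := EtCoh.baseChange0 p h pY hb w F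
  let iso := (EtCoh.pushComp p hb).app ((EtCoh.pull hb).obj F) ≪≫
    (EtCoh.pushCongr w).app ((EtCoh.pull hb).obj F) ≪≫ ((EtCoh.pushComp h pY).app ((EtCoh.pull hb).obj F)).symm
  have e : (EtCoh.pullPushAdj h).unit.app ((EtCoh.push p).obj F) ≫ (EtCoh.push h).map c =
      (EtCoh.push p).map ηb ≫ iso.hom := by
    exact ((EtCoh.pullPushAdj h).homEquiv_unit _ _ c).symm.trans (Equiv.apply_symm_apply _ _)
  let T := op (EtCoh.top X)
  have h1 : Function.Bijective (((EtCoh.pullPushAdj h).unit.app ((EtCoh.push p).obj F) ≫ (EtCoh.push h).map c).hom.app T) :=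
    (ConcreteCategory.bijective_of_isIso (((sheafToPresheaf _ _).map ((EtCoh.push h).map c)).app T)).comp hh
  rw [e] at h1
  have h2 : Function.Bijective (((EtCoh.push p).map ηb).hom.app T) :=
    ((ConcreteCategory.bijective_of_isIso (((sheafToPresheaf _ _).map iso.hom).app T)).of_comp_iff' _).1 h1
  let k := (EtCore.bcTopIso p).hom
  have h3 : Function.Bijective (ηb.hom.app (op ((EtCoh.bc p).obj (EtCoh.top X)))) := h2
  have hn : (ηb.hom.app (op ((EtCoh.bc p).obj (EtCoh.top X)))) ∘ F.obj.map k.op =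
      ((EtCoh.push hb).obj ((EtCoh.pull hb).obj F)).obj.map k.op ∘ ηb.hom.app (op (EtCoh.top Xb)) :=
    funext fun s => NatTrans.naturality_apply ηb.hom k.op s
  have h4 := h3.comp (ConcreteCategory.bijective_of_isIso (F.obj.map k.op))
  rw [hn] at h4
  exact ((ConcreteCategory.bijective_of_isIso
    (((EtCoh.push hb).obj ((EtCoh.pull hb).obj F)).obj.map k.op)).of_comp_iff' _).1 h4

theorem subsingleton_H_pull (n : ℕ) (G : EtCoh.Ab Xb)
    (hiso : ∀ i ≤ n, IsIso (EtBC.bcQ p h pY hb w i G))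
    (hR : ∀ q : ℕ, 0 < q → IsZero ((EtCoh.Rpush p q).obj G))
    (hG : ∀ k, Subsingleton (EtCoh.H Xb G (k + 1)))
    (hh : ∀ q ≤ n, Function.Bijective (EtCore.Hpull h ((EtCoh.push p).obj G) q))
    (k : ℕ) (hk : k + 1 ≤ n) : Subsingleton (EtCoh.H Yb ((EtCoh.pull hb).obj G) (k + 1)) := by
  haveI := EtSite.preservesFiniteLimits_pull p
  haveI := EtSite.preservesFiniteLimits_pull pY
  have hR' : ∀ q : ℕ, 1 ≤ q → q ≤ k + 1 → IsZero ((EtCoh.Rpush pY q).obj ((EtCoh.pull hb).obj G)) := fun q h1 h2 => by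
    haveI := hiso q (h2.trans hk)
    exact IsZero.of_iso ((EtCoh.pull h).map_isZero (hR q h1)) (asIso (EtBC.bcQ p h pY hb w q G)).symm
  obtain ⟨hb', -⟩ := edge pY (k + 1) _ hR'
  haveI := hiso 0 (Nat.zero_le _)
  haveI := isIso_baseChange0_of_bcQ h p hb pY w G
  have s : Function.Surjective ((EtLim.HofPush pY ((EtCoh.pull hb).obj G) (k + 1)) ∘
      (EtCoh.HF Y (k + 1)).map (EtCoh.baseChange0 p h pY hb w G) ∘
      EtCore.Hpull h ((EtCoh.push p).obj G) (k + 1)) :=
    (hb' (k + 1) le_rfl).2.comp ((ConcreteCategory.bijective_of_isIso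
      ((EtCoh.HF Y (k + 1)).map (EtCoh.baseChange0 p h pY hb w G))).2.comp (hh _ hk).2)
  haveI : Subsingleton (EtCoh.H X ((EtCoh.push p).obj G) (k + 1)) :=
    haveI := hG k
    (EtSite.bijective_HofPush p G hR (k + 1)).1.subsingleton
  exact s.subsingleton

include w in
/-- The comparison condition passes to base changes. -/
theorem compN_of_bcQ [CompactSpace X] [QuasiSeparatedSpace X] [CompactSpace Xb] [QuasiSeparatedSpace Xb]
    (L : Set ℕ) (n : ℕ) (hh : EtAcyc.CompN h L n)
    (hbc : ∀ Fb : EtCoh.Ab Xb, EtAcyc.IsLTorsion L Fb → ∀ i : ℕ, i ≤ n → IsIso (EtBC.bcQ p h pY hb w i Fb)) :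
    EtAcyc.CompN hb L n := by
  haveI : QuasiCompact p := quasiCompact_of_compactSpace p
  haveI : QuasiSeparated p := QuasiSeparated.of_comp p X.toSpecΓ
  have key : ∀ m ≤ n, ∀ F : EtCoh.Ab Xb, EtAcyc.IsLTorsion L F → Function.Bijective (EtCore.Hpull hb F m) ∧
      Function.Injective (EtCore.Hpull hb F (m + 1)) := by
    intro m
    induction m with
    | zero =>
      intro _ F hF
      have h0 : ∀ G : EtCoh.Ab Xb, EtAcyc.IsLTorsion L G → Function.Bijective (EtCore.Hpull hb G 0) := fun G hG => by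
        haveI := hbc G hG 0 (Nat.zero_le _)
        haveI := isIso_baseChange0_of_bcQ h p hb pY w G
        exact bijective_Hpull_zero h p hb pY w G ((hh _ (isLTorsion_push L p hG)).1 0 (Nat.zero_le _))
      refine ⟨h0 F hF, (injective_iff_map_eq_zero _).2 fun a ha => ?_⟩
      obtain ⟨G, u, _, hG, hGv, -⟩ := exists_torsion_effacement L F hF
      let E := ShortComplex.mk u (cokernel.π u) (cokernel.condition u)
      have hE : E.ShortExact := { exact := ShortComplex.exact_of_g_is_cokernel _ (cokernelIsCokernel _) }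
      have hQ : EtAcyc.IsLTorsion L E.X₃ := isLTorsion_of_epi (cokernel.π u) hG
      obtain ⟨x, rfl⟩ := Ext.covariant_sequence_exact₁ _ hE a
        (haveI := hGv 0; Subsingleton.elim _ _) rfl
      change EtCore.Hpull hb E.X₁ 1 (δH hE 0 x) = 0 at ha
      rw [Hpull_δH hb hE] at ha
      obtain ⟨z, hz⟩ := Ext.covariant_sequence_exact₃ _ (hE.map_of_exact (EtCoh.pull hb)) _ rfl ha
      obtain ⟨z', rfl⟩ := (h0 G hG).2 z
      have : x = (EtCoh.HF Xb 0).map E.g z' := (h0 _ hQ).1 (by
        rw [Hpull_map, EtSite.HF_map_apply]; exact hz.symm)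
      rw [this, EtSite.HF_map_apply]
      exact (Ext.comp_assoc_of_second_deg_zero _ _ _ _).trans
        ((congrArg (fun z => Ext.comp z' z rfl) hE.comp_extClass).trans (Ext.comp_zero _ _ _ _ _))
    | succ m ih =>
      intro hm F hF
      have hm' : m ≤ n := Nat.le_of_succ_le hm
      obtain ⟨G, u, _, hG, hGv, hGR⟩ := exists_torsion_effacement L F hF
      let E := ShortComplex.mk u (cokernel.π u) (cokernel.condition u)
      have hE : E.ShortExact := { exact := ShortComplex.exact_of_g_is_cokernel _ (cokernelIsCokernel _) }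
      have hE' := hE.map_of_exact (EtCoh.pull hb)
      have hQ : EtAcyc.IsLTorsion L E.X₃ := isLTorsion_of_epi (cokernel.π u) hG
      haveI hvan : Subsingleton (EtCoh.H Yb ((EtCoh.pull hb).obj G) (m + 1)) :=
        subsingleton_H_pull h p hb pY w n G (hbc G hG) (fun q hq => hGR p q hq) hGv
          ((hh _ (isLTorsion_push L p hG)).1) m hm
      have hsurj : Function.Surjective (EtCore.Hpull hb F (m + 1)) := fun b => by
        obtain ⟨y, hy⟩ := Ext.covariant_sequence_exact₁ _ hE' b (Subsingleton.elim (α := EtCoh.H Yb ((EtCoh.pull hb).obj G) (m + 1)) _ _) rfl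
        obtain ⟨x, rfl⟩ := (ih hm' E.X₃ hQ).1.2 y
        exact ⟨δH hE m x, (Hpull_δH hb hE m x).trans hy⟩
      refine ⟨⟨(ih hm' F hF).2, hsurj⟩, (injective_iff_map_eq_zero _).2 fun a ha => ?_⟩
      obtain ⟨x, rfl⟩ := Ext.covariant_sequence_exact₁ _ hE a
        (haveI := hGv (m + 1); Subsingleton.elim _ _) rfl
      change EtCore.Hpull hb E.X₁ (m + 1 + 1) (δH hE (m + 1) x) = 0 at ha
      rw [Hpull_δH hb hE] at ha
      obtain ⟨z, hz⟩ := Ext.covariant_sequence_exact₃ _ hE' _ rfl ha
      have hz0 : z = 0 := Subsingleton.elim (α := EtCoh.H Yb ((EtCoh.pull hb).obj G) (m + 1)) _ _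
      have hx : EtCore.Hpull hb E.X₃ (m + 1) x = 0 := by
        rw [← hz, hz0]
        exact Ext.zero_comp _ _ _ _ _
      rw [(ih hm' E.X₃ hQ).2 (hx.trans (map_zero _).symm)]
      exact Ext.zero_comp _ _ _ _ _
  intro F hF _
  exact ⟨fun q hq => (key q hq F hF).1, (key n le_rfl F hF).2⟩

end Groth.L27.CompTransfer
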