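import Groth.Agent.L27.LimCoh.HMaps
import Groth.Agent.L27.EtSite.Pull
import Groth.Agent.L00.RDerLES
import Mathlib.CategoryTheory.Abelian.RightDerived
import Mathlib.CategoryTheory.Preadditive.Injective.Preserves
import Mathlib.Algebra.Homology.ShortComplex.ShortExact
import Mathlib.CategoryTheory.Abelian.GrothendieckCategory.EnoughInjectives

/-! # The edge maps from the cohomology of a direct image, in low degrees -/

universe u

open CategoryTheory CategoryTheory.Limits AlgebraicGeometry Opposite CategoryTheory.Abelian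

set_option autoImplicit false
set_option backward.isDefEq.respectTransparency.types false
set_option linter.style.haveILetI false

noncomputable section

namespace Groth.L27.CompTransfer

open Groth.L27.LimCoh

variable {X Y : Scheme.{u}} (f : X ⟶ Y) [PreservesFiniteLimits (EtCoh.pull f)]

theorem bijective_HofPush_zero (F : EtCoh.Ab X) : Function.Bijective (EtLim.HofPush f F 0) := by
  have h : (secEq F ∘ EtLim.HofPush f F 0) = F.obj.map (EtCore.bcTopIso f).inv.op ∘ secEq _ :=
    funext fun e => secEq_HofPush f F e
  exact ((secEq F).bijective.of_comp_iff' _).1 (h ▸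
    (ConcreteCategory.bijective_of_isIso (F.obj.map (EtCore.bcTopIso f).inv.op)).comp (secEq _).bijective)

theorem surjective_HofPush_injective (I : EtCoh.Ab X) [Injective I] (n : ℕ) :
    Function.Surjective (EtLim.HofPush f I n) := by
  cases n with
  | zero => exact (bijective_HofPush_zero f I).2
  | succ n => exact fun x => ⟨0, (map_zero _).trans (eq_zero_of_injective I n x).symm⟩

section Step

variable {E : ShortComplex (EtCoh.Ab X)} (hE : E.ShortExact) [Injective E.X₂]

/-- The image of the direct image of a short exact sequence. -/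
abbrev pushSC : ShortComplex (EtCoh.Ab Y) :=
  ShortComplex.mk ((EtCoh.push f).map E.f) (cokernel.π _) (cokernel.condition _)

/-- The cokernel in the direct image. -/
abbrev iota : (pushSC f (E := E)).X₃ ⟶ (EtCoh.push f).obj E.X₃ :=
  cokernel.desc _ ((EtCoh.push f).map E.g) (by rw [← Functor.map_comp, E.zero, Functor.map_zero])

include hE in
theorem pushSC_shortExact : (pushSC f (E := E)).ShortExact := by
  haveI := hE.mono_f
  exact { exact := ShortComplex.exact_of_g_is_cokernel _ (cokernelIsCokernel _) }

include hE in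
theorem mono_iota : Mono (iota f (E := E)) := by
  haveI := hE.mono_f
  exact ((hE.exact.map_of_mono_of_preservesKernel (EtCoh.push f) hE.mono_f inferInstance).mono_cokernelDesc :)

/-- The map of sequences given by the counit. -/
def counitSC : (pushSC f (E := E)).map (EtCoh.pull f) ⟶ E where
  τ₁ := (EtCoh.pullPushAdj f).counit.app E.X₁
  τ₂ := (EtCoh.pullPushAdj f).counit.app E.X₂
  τ₃ := (EtCoh.pull f).map (iota f (E := E)) ≫ (EtCoh.pullPushAdj f).counit.app E.X₃
  comm₁₂ := ((EtCoh.pullPushAdj f).counit.naturality E.f).symm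
  comm₂₃ := by
    refine Eq.trans ((EtCoh.pullPushAdj f).counit.naturality E.g).symm ?_
    show (EtCoh.pull f).map ((EtCoh.push f).map E.g) ≫ _ = (EtCoh.pull f).map (cokernel.π _) ≫ _ ≫ _
    rw [← Functor.map_comp_assoc, cokernel.π_desc]

/-- The comparison on the cokernel. -/
def theta (n : ℕ) (c : EtCoh.H Y (pushSC f (E := E)).X₃ n) : EtCoh.H X E.X₃ n :=
  EtLim.HofPush f E.X₃ n ((EtCoh.HF Y n).map (iota f (E := E)) c)

theorem theta_map (n : ℕ) (y : EtCoh.H Y ((EtCoh.push f).obj E.X₂) n) :
    theta f n ((EtCoh.HF Y n).map (pushSC f (E := E)).g y) = (EtCoh.HF X n).map E.g (EtLim.HofPush f E.X₂ n y) := by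
  rw [theta, ← HF_map_comp]
  rw [show (pushSC f (E := E)).g ≫ iota f (E := E) = (EtCoh.push f).map E.g from cokernel.π_desc _ _ _]
  exact HofPush_map f E.g n y

include hE in
theorem HofPush_δ (n : ℕ) (c : EtCoh.H Y (pushSC f (E := E)).X₃ n) :
    EtLim.HofPush f E.X₁ (n + 1) (δH (pushSC_shortExact f hE) n c) = δH hE n (theta f n c) := by
  refine (HpullThen_δH f (pushSC_shortExact f hE) hE (counitSC f) n c).trans (congrArg (δH hE n) ?_)
  rw [theta, EtSite.HofPush_def, HpullThen_apply, Hpull_map, ← HF_map_comp]
  rfl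

include hE in
theorem injective_succ (n : ℕ) (h : Function.Injective (theta f (E := E) n)) :
    Function.Injective (EtLim.HofPush f E.X₁ (n + 1)) := by
  refine (injective_iff_map_eq_zero _).2 fun a ha => ?_
  haveI : (EtCoh.push f).PreservesInjectiveObjects :=
    Functor.preservesInjectiveObjects_of_adjunction_of_preservesMonomorphisms (EtCoh.pullPushAdj f)
  haveI : Injective (pushSC f (E := E)).X₂ := (EtCoh.push f).injective_obj E.X₂
  obtain ⟨c, rfl⟩ := Ext.covariant_sequence_exact₁ _ (pushSC_shortExact f hE) a
    (Ext.eq_zero_of_injective _) rfl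
  have ha' : δH hE n (theta f n c) = 0 := (HofPush_δ f hE n c).symm.trans ha
  obtain ⟨y, hy⟩ := Ext.covariant_sequence_exact₃ _ hE (theta f n c) rfl ha'
  obtain ⟨y', rfl⟩ := surjective_HofPush_injective f E.X₂ n y
  have hc : c = (EtCoh.HF Y n).map (pushSC f (E := E)).g y' := h (by
    rw [theta_map, EtSite.HF_map_apply]; exact hy.symm)
  rw [hc, EtSite.HF_map_apply]
  refine (Ext.comp_assoc_of_second_deg_zero _ _ _ _).trans ?_
  exact (congrArg (fun z => Ext.comp y' z rfl) (pushSC_shortExact f hE).comp_extClass).trans (Ext.comp_zero _ _ _ _ _)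

include hE in
theorem surjective_succ (n : ℕ) (h : Function.Surjective (theta f (E := E) n)) :
    Function.Surjective (EtLim.HofPush f E.X₁ (n + 1)) := fun b => by
  obtain ⟨y, rfl⟩ := Ext.covariant_sequence_exact₁ _ hE b (Ext.eq_zero_of_injective _) rfl
  obtain ⟨c, rfl⟩ := h y
  exact ⟨δH (pushSC_shortExact f hE) n c, HofPush_δ f hE n c⟩

end Step

/-- Edge maps: bijective up to the vanishing range, injective one degree beyond. -/
theorem edge (m : ℕ) : ∀ F : EtCoh.Ab X, (∀ q : ℕ, 1 ≤ q → q ≤ m → IsZero ((EtCoh.Rpush f q).obj F)) →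
    (∀ k ≤ m, Function.Bijective (EtLim.HofPush f F k)) ∧ Function.Injective (EtLim.HofPush f F (m + 1)) := by
  induction m with
  | zero =>
    intro F _
    refine ⟨fun k hk => by obtain rfl := Nat.le_zero.1 hk; exact bijective_HofPush_zero f F, ?_⟩
    let E := ShortComplex.mk (Injective.ι F) (cokernel.π _) (cokernel.condition _)
    have hE : E.ShortExact := { exact := ShortComplex.exact_of_g_is_cokernel _ (cokernelIsCokernel _) }
    haveI := mono_iota f hE
    refine injective_succ f hE 0 fun a b hab => ?_
    have h1 := (bijective_HofPush_zero f E.X₃).1 hab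
    apply (secEq _).injective
    have h2 := congrArg (secEq _) h1
    rw [secEq_map, secEq_map] at h2
    have hm : Mono ((sheafToPresheaf Y.smallEtaleTopology AddCommGrpCat.{u + 1}).map (iota f (E := E))) :=
      inferInstance
    exact (AddCommGrpCat.mono_iff_injective _).1 ((NatTrans.mono_iff_mono_app _).1 hm _) h2
  | succ m ih =>
    intro F hF
    letI := HasDerivedCategory.standard (EtCoh.Ab X)
    let E := ShortComplex.mk (Injective.ι F) (cokernel.π _) (cokernel.condition _)
    have hE : E.ShortExact := { exact := ShortComplex.exact_of_g_is_cokernel _ (cokernelIsCokernel _) }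
    obtain ⟨hb, -⟩ := ih F fun q h1 h2 => hF q h1 (by omega)
    have hI : ∀ q : ℕ, 0 < q → IsZero ((EtCoh.Rpush f q).obj E.X₂) := fun q hq => by
      obtain ⟨q, rfl⟩ := Nat.exists_eq_succ_of_ne_zero hq.ne'
      exact (EtCoh.push f).isZero_rightDerived_obj_injective_succ q (Injective.under F)
    obtain ⟨hQb, hQi⟩ := ih E.X₃ fun q h1 h2 => by
      have := Groth.L00.RDerLES.epi_map_g (EtCoh.push f) hE q (hF (q + 1) (by omega) (by omega))
      exact IsZero.of_epi (((EtCoh.push f).rightDerived q).map E.g) (hI q h1)
    haveI : Epi ((EtCoh.push f).map E.g) := by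
      have := Groth.L00.RDerLES.epi_map_g (EtCoh.push f) hE 0 (hF 1 le_rfl (by omega))
      rw [← NatIso.naturality_1 (EtCoh.push f).rightDerivedZeroIsoSelf E.g]
      infer_instance
    haveI := mono_iota f hE
    haveI : Epi (iota f (E := E)) := epi_of_epi_fac (cokernel.π_desc _ _ _)
    haveI : IsIso (iota f (E := E)) := isIso_of_mono_of_epi _
    have hι : ∀ k, Function.Bijective ((EtCoh.HF Y k).map (iota f (E := E))) := fun k =>
      ConcreteCategory.bijective_of_isIso _
    have hθ : ∀ k ≤ m, Function.Bijective (theta f (E := E) k) := fun k hk => (hQb k hk).comp (hι k)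
    refine ⟨fun k hk => ?_, injective_succ f hE (m + 1) (hQi.comp (hι _).1)⟩
    rcases Nat.lt_or_ge k (m + 1) with hlt | hge
    · exact hb k (by omega)
    · obtain rfl : k = m + 1 := by omega
      exact ⟨injective_succ f hE m (hθ m le_rfl).1, surjective_succ f hE m (hθ m le_rfl).2⟩

end Groth.L27.CompTransfer
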